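import Groth.Agent.Lib.MultAct19.Field
import Mathlib.RingTheory.Ideal.Quotient.Operations
import Mathlib.RingTheory.Flat.FaithfullyFlat.Basic

/-!
# Families of homomorphisms between groups of multiplicative type parametrised by connected groups
-/

set_option autoImplicit false
set_option linter.style.haveILetI false
set_option backward.isDefEq.respectTransparency.types false

universe u

open CategoryTheory Limits MonoidalCategory CartesianMonoidalCategory MonObj AlgebraicGeometry
open Groth.Agent.DiagGL Groth.Agent.AlgGrpBasic19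
open scoped TensorProduct

namespace Groth.Agent.MultAct19

section Comp

variable {S S' S'' : Scheme.{u}} (ψ : S' ⟶ S) (y : S'' ⟶ S') (X : Over S) [GrpObj X]

/-- The two ways of seeing an object over the bottom of a tower. -/
noncomputable def compIso (T : Over S'') :
    (Over.map (y ≫ ψ)).obj T ≅ (Over.map ψ).obj ((Over.map y).obj T) :=
  Over.isoMk (Iso.refl _) (by simp)

theorem compIso_nat {T T' : Over S''} (t : T' ⟶ T) :
    (Over.map ψ).map ((Over.map y).map t) ≫ (compIso ψ y T).inv =
      (compIso ψ y T').inv ≫ (Over.map (y ≫ ψ)).map t :=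
  Over.OverMorphism.ext ((Category.comp_id _).trans (Category.id_comp _).symm)

/-- Rewriting a point of the composite base change as a point of the iterated one. -/
noncomputable def reassocPt {T : Over S''} : (T ⟶ Red.bc (y ≫ ψ) X) ≃ (T ⟶ Red.bc y (Red.bc ψ X)) :=
  ((Over.mapPullbackAdj (y ≫ ψ)).homEquiv T X).symm.trans <|
    (Iso.homCongr (compIso ψ y T) (Iso.refl X)).trans <|
      ((Over.mapPullbackAdj ψ).homEquiv _ X).trans ((Over.mapPullbackAdj y).homEquiv T _)

theorem fl_reassocPt {T : Over S''} (x : T ⟶ Red.bc (y ≫ ψ) X) :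
    fl ψ X (fl y (Red.bc ψ X) (reassocPt ψ y X x)) = (compIso ψ y T).inv ≫ fl (y ≫ ψ) X x := by
  simp only [fl, reassocPt, Equiv.trans_apply, Iso.homCongr_apply, Iso.refl_hom, Category.comp_id]
  exact (congrArg _ (Equiv.symm_apply_apply _ _)).trans (Equiv.symm_apply_apply _ _)

theorem reassocPt_comp {T T' : Over S''} (t : T' ⟶ T) (x : T ⟶ Red.bc (y ≫ ψ) X) :
    reassocPt ψ y X (t ≫ x) = t ≫ reassocPt ψ y X x :=
  fl_injective y _ (fl_injective ψ X (by
    rw [fl_comp, fl_comp, fl_reassocPt, fl_reassocPt, fl_comp, ← Category.assoc, ← compIso_nat, Category.assoc]))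

theorem reassocPt_mul {T : Over S''} (x x' : T ⟶ Red.bc (y ≫ ψ) X) :
    reassocPt ψ y X (x * x') = reassocPt ψ y X x * reassocPt ψ y X x' :=
  fl_injective y _ (fl_injective ψ X (by
    rw [fl_mul, fl_mul, fl_reassocPt, fl_reassocPt, fl_reassocPt, fl_mul, MonObj.comp_mul]))

variable {X}

/-- Character coordinates on the composite base change. -/
noncomputable def charsComp {M : Type} [AddCommGroup M] (C : Chars M (Red.bc y (Red.bc ψ X))) :
    Chars M (Red.bc (y ≫ ψ) X) where
  ch x := C.ch (reassocPt ψ y X x)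
  nat t x a := by rw [reassocPt_comp, C.nat]
  mul x x' a := by rw [reassocPt_mul, C.mul]
  inj h := (reassocPt ψ y X).injective (C.inj h)
  surj c := by
    obtain ⟨x, hx⟩ := C.surj c
    exact ⟨(reassocPt ψ y X).symm x, by rw [Equiv.apply_symm_apply]; exact hx⟩

end Comp

variable {k : Type u} [Field k]

/-- A group of multiplicative type is diagonalisable over some extension field. -/
theorem exists_chars {H : Over (Spec (CommRingCat.of k))} [GrpObj H] (hH : SGA3x.IsMultTypeFT H) :
    ∃ (K : Type u) (_ : Field K) (_ : Algebra k K) (M : Type) (_ : AddCommGroup M),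
      Nonempty (Chars M (Red.bc (Spec.map (CommRingCat.ofHom (algebraMap k K))) H)) := by
  obtain ⟨S', f, _, hfs, -, hloc⟩ := hH
  obtain ⟨s', -⟩ := hfs.surj (IsLocalRing.closedPoint k)
  obtain ⟨U, hsU, M, _, -, ⟨iso⟩⟩ := hloc s'
  let p : (U : Scheme.{u}) := ⟨s', hsU⟩
  let K := (U : Scheme.{u}).residueField p
  let q : Spec (CommRingCat.of K) ⟶ Spec (CommRingCat.of k) := (U : Scheme.{u}).fromSpecResidueField p ≫ U.ι ≫ f
  letI : Algebra k K := (Spec.preimage q).hom.toAlgebra
  have e : Spec.map (CommRingCat.ofHom (algebraMap k K)) = q := Spec.map_preimage q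
  refine ⟨K, inferInstance, inferInstance, M, inferInstance, ?_⟩
  rw [e]
  exact ⟨charsComp _ _ (Chars.baseChange _ _ ((charsDS (U : Scheme.{u}) M).transport iso))⟩

/-- Extending the field preserves diagonalisability. -/
theorem chars_extend {H : Over (Spec (CommRingCat.of k))} [GrpObj H] {K L : Type u} [Field K] [Field L]
    [Algebra k K] [Algebra k L] (φ : K →ₐ[k] L) {M : Type} [AddCommGroup M]
    (C : Chars M (Red.bc (Spec.map (CommRingCat.ofHom (algebraMap k K))) H)) :
    Nonempty (Chars M (Red.bc (Spec.map (CommRingCat.ofHom (algebraMap k L))) H)) := by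
  have e : Spec.map (CommRingCat.ofHom (algebraMap k L)) =
      Spec.map (CommRingCat.ofHom φ.toRingHom) ≫ Spec.map (CommRingCat.ofHom (algebraMap k K)) := by
    rw [← Spec.map_comp, ← CommRingCat.ofHom_comp, AlgHom.toRingHom_eq_coe, AlgHom.comp_algebraMap]
  rw [e]
  exact ⟨charsComp _ _ (Chars.baseChange _ _ C)⟩

/-- Two groups of multiplicative type are diagonalisable over a common extension. -/
theorem exists_chars_pair {H₁ H₂ : Over (Spec (CommRingCat.of k))} [GrpObj H₁] [GrpObj H₂]
    (h₁ : SGA3x.IsMultTypeFT H₁) (h₂ : SGA3x.IsMultTypeFT H₂) :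
    ∃ (K : Type u) (_ : Field K) (_ : Algebra k K) (M : Type) (_ : AddCommGroup M) (N : Type) (_ : AddCommGroup N),
      Nonempty (Chars M (Red.bc (Spec.map (CommRingCat.ofHom (algebraMap k K))) H₁)) ∧
      Nonempty (Chars N (Red.bc (Spec.map (CommRingCat.ofHom (algebraMap k K))) H₂)) := by
  obtain ⟨K₁, _, _, M, _, ⟨C⟩⟩ := exists_chars h₁
  obtain ⟨K₂, _, _, N, _, ⟨D⟩⟩ := exists_chars h₂
  haveI : Nontrivial (K₁ ⊗[k] K₂) :=
    (Algebra.TensorProduct.includeLeft_injective (R := k) (S := k) (A := K₁) (B := K₂)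
      (algebraMap k K₂).injective).nontrivial
  obtain ⟨m, hm⟩ := Ideal.exists_maximal (K₁ ⊗[k] K₂)
  letI : Field ((K₁ ⊗[k] K₂) ⧸ m) := Ideal.Quotient.field m
  refine ⟨(K₁ ⊗[k] K₂) ⧸ m, inferInstance, inferInstance, M, inferInstance, N, inferInstance,
    chars_extend ((Ideal.Quotient.mkₐ k m).comp Algebra.TensorProduct.includeLeft) C,
    chars_extend ((Ideal.Quotient.mkₐ k m).comp Algebra.TensorProduct.includeRight) D⟩

section Family

variable {G : Over (Spec (CommRingCat.of k))} [GrpObj G] [IsAffine G.left] [ConnectedSpace G.left]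
  {K : Type u} [Field K] [Algebra k K]

local notation "qK" => Spec.map (CommRingCat.ofHom (algebraMap k K))

/-- Equalities of points may be checked after extending the field. -/
theorem eq_of_bc {X : Over (Spec (CommRingCat.of k))} {T : Over (Spec (CommRingCat.of k))} (x x' : T ⟶ X)
    (h : ∀ (T' : Over (Spec (CommRingCat.of K))) (π : (Over.map qK).obj T' ⟶ T), π ≫ x = π ≫ x') : x = x' := by
  let T' : Over (Spec (CommRingCat.of K)) := Over.mk (pullback.snd T.hom qK)
  let π : (Over.map qK).obj T' ⟶ T := Over.homMk (pullback.fst T.hom qK) pullback.condition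
  haveI : Surjective qK := ⟨fun z => ⟨IsLocalRing.closedPoint K, Subsingleton.elim _ _⟩⟩
  haveI : Flat qK := inferInstance
  haveI : QuasiCompact qK := inferInstance
  haveI : Flat π.left := inferInstanceAs (Flat (pullback.fst T.hom qK))
  haveI : Surjective π.left := inferInstanceAs (Surjective (pullback.fst T.hom qK))
  haveI : QuasiCompact π.left := inferInstanceAs (QuasiCompact (pullback.fst T.hom qK))
  haveI := epi_of_cover π
  rw [← cancel_epi π]
  exact h T' π

omit [IsAffine G.left] [ConnectedSpace G.left] in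
theorem fl_one {T' : Over (Spec (CommRingCat.of K))} : fl qK G (1 : T' ⟶ Red.bc qK G) = 1 := by
  have e : fl qK G (1 : T' ⟶ Red.bc qK G) * fl qK G 1 = fl qK G (1 : T' ⟶ Red.bc qK G) := by
    rw [← fl_mul, _root_.mul_one]
  exact mul_eq_left.1 e

/-- The transported family. -/
noncomputable def famK {X Y : Over (Spec (CommRingCat.of k))}
    (c : ∀ {T : Over (Spec (CommRingCat.of k))}, (T ⟶ G) → (T ⟶ X) → (T ⟶ Y))
    {T' : Over (Spec (CommRingCat.of K))} (g : T' ⟶ Red.bc qK G) (h : T' ⟶ Red.bc qK X) [GrpObj X] :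
    T' ⟶ Red.bc qK Y :=
  (Over.mapPullbackAdj qK).homEquiv T' Y (c (fl qK G g) (fl qK X h))

/-- The conclusion on characters, over the big field. -/
theorem famK_char {X Y : Over (Spec (CommRingCat.of k))} [GrpObj X] [GrpObj Y]
    {M : Type} [AddCommGroup M] {N : Type} [AddCommGroup N] (C : Chars M (Red.bc qK X)) (D : Chars N (Red.bc qK Y))
    (F : Multiplicative N → Multiplicative M)
    (c : ∀ {T : Over (Spec (CommRingCat.of k))}, (T ⟶ G) → (T ⟶ X) → (T ⟶ Y))
    (hnat : ∀ {T T' : Over (Spec (CommRingCat.of k))} (t : T' ⟶ T) (g : T ⟶ G) (h : T ⟶ X),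
      t ≫ c g h = c (t ≫ g) (t ≫ h))
    (hmul : ∀ {T : Over (Spec (CommRingCat.of k))} (g : T ⟶ G) (h h' : T ⟶ X), c g (h * h') = c g h * c g h')
    (he : ∀ {T' : Over (Spec (CommRingCat.of K))} (h : T' ⟶ Red.bc qK X) b,
      D.ch ((Over.mapPullbackAdj qK).homEquiv T' Y (c 1 (fl qK X h))) b = C.ch h (F b))
    {T' : Over (Spec (CommRingCat.of K))} (g : T' ⟶ Red.bc qK G) (h : T' ⟶ Red.bc qK X) (b : Multiplicative N) :
    D.ch (famK c g h) b = C.ch h (F b) := by
  haveI : GeometricallyConnected G.hom := geometricallyConnected G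
  haveI : IsAffineHom (Red.bc qK G).hom :=
    (MorphismProperty.pullback_snd (P := @IsAffineHom) G.hom qK inferInstance : IsAffineHom (pullback.snd G.hom qK))
  haveI : IsAffine (Red.bc qK G).left := isAffine_of_isAffineHom (Red.bc qK G).hom
  haveI : GeometricallyConnected (Red.bc qK G).hom :=
    (MorphismProperty.pullback_snd (P := @GeometricallyConnected) G.hom qK inferInstance :
      GeometricallyConnected (pullback.snd G.hom qK))
  haveI : ConnectedSpace (Red.bc qK G).left :=
    GeometricallyConnected.connectedSpace_of_subsingleton (Red.bc qK G).hom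
  have hfl : ∀ {T' : Over (Spec (CommRingCat.of K))} (z : (Over.map qK).obj T' ⟶ Y),
      fl qK Y ((Over.mapPullbackAdj qK).homEquiv T' Y z) = z := fun z => Equiv.symm_apply_apply _ _
  exact char_eq_of_natural C D F (1 : 𝟙_ (Over (Spec (CommRingCat.of K))) ⟶ Red.bc qK G) (fun g h => famK c g h)
    (fun t g h => fl_injective qK Y (by
      simp only [famK]
      rw [fl_comp, hfl, hfl, fl_comp, fl_comp, hnat]))
    (fun g h h' => fl_injective qK Y (by
      simp only [famK]
      rw [hfl, fl_mul, fl_mul, hfl, hfl, hmul]))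
    (fun {T''} h b => by rw [MonObj.comp_one]; simp only [famK, fl_one]; exact he h b) g h b

end Family

/-- A family of endomorphisms of a group of multiplicative type, parametrised by a connected affine group
and equal to the identity at `1`, is the identity. -/
theorem family_eq_self {G H : Over (Spec (CommRingCat.of k))} [GrpObj G] [GrpObj H] [IsAffine G.left]
    [ConnectedSpace G.left] (hH : SGA3x.IsMultTypeFT H)
    (c : ∀ {T : Over (Spec (CommRingCat.of k))}, (T ⟶ G) → (T ⟶ H) → (T ⟶ H))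
    (hnat : ∀ {T T' : Over (Spec (CommRingCat.of k))} (t : T' ⟶ T) (g : T ⟶ G) (h : T ⟶ H),
      t ≫ c g h = c (t ≫ g) (t ≫ h))
    (hmul : ∀ {T : Over (Spec (CommRingCat.of k))} (g : T ⟶ G) (h h' : T ⟶ H), c g (h * h') = c g h * c g h')
    (hone : ∀ {T : Over (Spec (CommRingCat.of k))} (h : T ⟶ H), c 1 h = h)
    {T : Over (Spec (CommRingCat.of k))} (g : T ⟶ G) (h : T ⟶ H) : c g h = h := by
  obtain ⟨K, _, _, M, _, ⟨C⟩⟩ := exists_chars hH
  refine eq_of_bc (K := K) _ _ fun T' π => ?_
  obtain ⟨g', hg'⟩ := fl_surjective _ G (π ≫ g)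
  obtain ⟨h', hh'⟩ := fl_surjective _ H (π ≫ h)
  have key : famK (K := K) c g' h' = h' := C.inj fun b => famK_char C C id c hnat hmul
    (fun {T''} h b => by rw [hone]; simp only [fl, Equiv.apply_symm_apply]; rfl) g' h' b
  have := congrArg (fl _ H) key
  rw [hnat, ← hg', ← hh']
  exact (Equiv.symm_apply_apply _ _).symm.trans this

/-- A family of homomorphisms between groups of multiplicative type, parametrised by a connected affine
group and trivial at `1`, is trivial. -/
theorem family_eq_one {G H₁ H₂ : Over (Spec (CommRingCat.of k))} [GrpObj G] [GrpObj H₁] [GrpObj H₂]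
    [IsAffine G.left] [ConnectedSpace G.left] (h₁ : SGA3x.IsMultTypeFT H₁) (h₂ : SGA3x.IsMultTypeFT H₂)
    (c : ∀ {T : Over (Spec (CommRingCat.of k))}, (T ⟶ G) → (T ⟶ H₁) → (T ⟶ H₂))
    (hnat : ∀ {T T' : Over (Spec (CommRingCat.of k))} (t : T' ⟶ T) (g : T ⟶ G) (h : T ⟶ H₁),
      t ≫ c g h = c (t ≫ g) (t ≫ h))
    (hmul : ∀ {T : Over (Spec (CommRingCat.of k))} (g : T ⟶ G) (h h' : T ⟶ H₁), c g (h * h') = c g h * c g h')
    (hone : ∀ {T : Over (Spec (CommRingCat.of k))} (h : T ⟶ H₁), c 1 h = 1)
    {T : Over (Spec (CommRingCat.of k))} (g : T ⟶ G) (h : T ⟶ H₁) : c g h = 1 := by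
  obtain ⟨K, _, _, M, _, N, _, ⟨C⟩, ⟨D⟩⟩ := exists_chars_pair h₁ h₂
  refine eq_of_bc (K := K) _ _ fun T' π => ?_
  obtain ⟨g', hg'⟩ := fl_surjective _ G (π ≫ g)
  obtain ⟨h', hh'⟩ := fl_surjective _ H₁ (π ≫ h)
  have hE1 : ∀ T'' : Over (Spec (CommRingCat.of K)),
      (Over.mapPullbackAdj (Spec.map (CommRingCat.ofHom (algebraMap k K)))).homEquiv T'' H₂ 1 = 1 := fun T'' =>
    fl_injective _ H₂ ((Equiv.symm_apply_apply _ _).trans fl_one.symm)
  have key : famK (K := K) c g' h' = 1 := D.inj fun b => by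
    rw [famK_char C D (fun _ => 1) c hnat hmul (fun {T''} h b => by rw [hone, hE1, D.one, map_one]) g' h' b,
      map_one, D.one]
  have := congrArg (fl _ H₂) key
  rw [hnat, ← hg', ← hh', MonObj.comp_one]
  rw [fl_one] at this
  exact (Equiv.symm_apply_apply _ _).symm.trans this

end Groth.Agent.MultAct19
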