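import Groth.Agent.Lib.MultAct19.Basic
import Groth.Agent.Lib.AlgGrpBasic19.Basic
import Groth.Agent.Lib.GeomIrr18.Top
import Groth.Prelude.Def_SGA3x

/-!
# Actions of connected affine groups on groups of multiplicative type are trivial
-/

set_option autoImplicit false
set_option linter.style.haveILetI false
set_option backward.isDefEq.respectTransparency.types false

universe u

open CategoryTheory Limits MonoidalCategory CartesianMonoidalCategory MonObj AlgebraicGeometry
open Groth.Agent.DiagGL Groth.Agent.AlgGrpBasic19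

namespace Groth.Agent.MultAct19

variable {k : Type u} [Field k]

theorem geometricallyConnected (G : Over (Spec (CommRingCat.of k))) [GrpObj G] [ConnectedSpace G.left] :
    GeometricallyConnected G.hom := by
  haveI : GeometricallyConnected (η[G].left ≫ G.hom) := by
    rw [Over.w η[G]]
    refine ⟨fun K _ y Y p q h => ?_⟩
    haveI : IsIso (𝟙_ (Over (Spec (CommRingCat.of k)))).hom := inferInstanceAs (IsIso (𝟙 _))
    haveI : IsIso q := h.isIso_snd_of_isIso
    exact (asIso q).hom.homeomorph.symm.connectedSpace_iff.1 inferInstance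
  exact GeomIrr.geometricallyConnected_of_hom G.hom η[G].left (IsLocalRing.closedPoint k)

/-- A connected affine group acting by automorphisms on a group of multiplicative type acts trivially. -/
theorem act_eq {G H : Over (Spec (CommRingCat.of k))} [GrpObj G] [GrpObj H] [IsAffine G.left]
    [ConnectedSpace G.left] (hH : SGA3x.IsMultTypeFT H) (a : AlgGrp.Action G H)
    (hhom : ∀ (T : Over (Spec (CommRingCat.of k))) (g : T ⟶ G) (h h' : T ⟶ H),
      lift g (h * h') ≫ a.act = (lift g h ≫ a.act) * (lift g h' ≫ a.act))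
    (T : Over (Spec (CommRingCat.of k))) (g : T ⟶ G) (h : T ⟶ H) : lift g h ≫ a.act = h := by
  obtain ⟨S', f, _, hfs, -, hloc⟩ := hH
  obtain ⟨s', -⟩ := hfs.surj (IsLocalRing.closedPoint k)
  obtain ⟨U, hsU, M, _, -, ⟨iso⟩⟩ := hloc s'
  let ψ : (U : Scheme.{u}) ⟶ Spec (CommRingCat.of k) := U.ι ≫ f
  let p : (U : Scheme.{u}) := ⟨s', hsU⟩
  let K := (U : Scheme.{u}).residueField p
  let y : Spec (CommRingCat.of K) ⟶ (U : Scheme.{u}) := (U : Scheme.{u}).fromSpecResidueField p
  let C : Chars M (Red.bc y (Red.bc ψ H)) := Chars.baseChange y _ ((charsDS (U : Scheme.{u}) M).transport iso)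
  let flt : ∀ {X : Over (Spec (CommRingCat.of k))} {T' : Over (Spec (CommRingCat.of K))},
      (T' ⟶ Red.bc y (Red.bc ψ X)) → ((Over.map ψ).obj ((Over.map y).obj T') ⟶ X) :=
    fun {X} {T'} x => ((Over.mapPullbackAdj ψ).homEquiv _ _).symm (((Over.mapPullbackAdj y).homEquiv _ _).symm x)
  let unfl : ∀ {X : Over (Spec (CommRingCat.of k))} {T' : Over (Spec (CommRingCat.of K))},
      ((Over.map ψ).obj ((Over.map y).obj T') ⟶ X) → (T' ⟶ Red.bc y (Red.bc ψ X)) :=
    fun {X} {T'} x => (Over.mapPullbackAdj y).homEquiv _ _ ((Over.mapPullbackAdj ψ).homEquiv _ _ x)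
  have flt_unfl : ∀ {X : Over (Spec (CommRingCat.of k))} {T' : Over (Spec (CommRingCat.of K))}
      (x : (Over.map ψ).obj ((Over.map y).obj T') ⟶ X), flt (unfl x) = x := fun {X} {T'} x => by
    simp only [flt, unfl]
    exact (congrArg _ (Equiv.symm_apply_apply _ _)).trans (Equiv.symm_apply_apply _ _)
  have flt_inj : ∀ {X : Over (Spec (CommRingCat.of k))} {T' : Over (Spec (CommRingCat.of K))},
      Function.Injective (flt (X := X) (T' := T')) := fun {X} {T'} =>
    ((Over.mapPullbackAdj ψ).homEquiv _ _).symm.injective.comp ((Over.mapPullbackAdj y).homEquiv _ _).symm.injective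
  have flt_comp : ∀ {X : Over (Spec (CommRingCat.of k))} {T₁ T₂ : Over (Spec (CommRingCat.of K))}
      (t : T₁ ⟶ T₂) (x : T₂ ⟶ Red.bc y (Red.bc ψ X)),
      flt (t ≫ x) = (Over.map ψ).map ((Over.map y).map t) ≫ flt x := fun t x => by
    simp only [flt]
    rw [Adjunction.homEquiv_naturality_left_symm, Adjunction.homEquiv_naturality_left_symm]
  have flt_mulH : ∀ {T' : Over (Spec (CommRingCat.of K))} (x x' : T' ⟶ Red.bc y (Red.bc ψ H)),
      flt (x * x') = flt x * flt x' := fun {T'} x x' => by
    show fl ψ H (fl y (Red.bc ψ H) (x * x')) = _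
    rw [fl_mul, fl_mul]
    rfl
  have flt_oneG : ∀ {T' : Over (Spec (CommRingCat.of K))}, flt (1 : T' ⟶ Red.bc y (Red.bc ψ G)) = 1 :=
    fun {T'} => by
    have e : flt (1 : T' ⟶ Red.bc y (Red.bc ψ G)) * flt (1 : T' ⟶ Red.bc y (Red.bc ψ G)) =
        flt (1 : T' ⟶ Red.bc y (Red.bc ψ G)) := by
      show fl ψ G (fl y (Red.bc ψ G) 1) * fl ψ G (fl y (Red.bc ψ G) 1) = _
      rw [← fl_mul, ← fl_mul, _root_.mul_one]
      rfl
    exact mul_eq_left.1 e
  haveI : GeometricallyConnected G.hom := geometricallyConnected G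
  haveI : IsAffineHom G.hom := inferInstance
  haveI : IsAffineHom (Red.bc ψ G).hom :=
    (MorphismProperty.pullback_snd (P := @IsAffineHom) G.hom ψ inferInstance : IsAffineHom (pullback.snd G.hom ψ))
  haveI : IsAffineHom (Red.bc y (Red.bc ψ G)).hom :=
    (MorphismProperty.pullback_snd (P := @IsAffineHom) (Red.bc ψ G).hom y inferInstance :
      IsAffineHom (pullback.snd (Red.bc ψ G).hom y))
  haveI : IsAffine (Red.bc y (Red.bc ψ G)).left := isAffine_of_isAffineHom (Red.bc y (Red.bc ψ G)).hom
  haveI : GeometricallyConnected (Red.bc ψ G).hom :=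
    (MorphismProperty.pullback_snd (P := @GeometricallyConnected) G.hom ψ inferInstance :
      GeometricallyConnected (pullback.snd G.hom ψ))
  haveI : GeometricallyConnected (Red.bc y (Red.bc ψ G)).hom :=
    (MorphismProperty.pullback_snd (P := @GeometricallyConnected) (Red.bc ψ G).hom y inferInstance :
      GeometricallyConnected (pullback.snd (Red.bc ψ G).hom y))
  haveI : ConnectedSpace (Red.bc y (Red.bc ψ G)).left :=
    GeometricallyConnected.connectedSpace_of_subsingleton (Red.bc y (Red.bc ψ G)).hom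
  -- pull `T` back to `K`
  let q : Spec (CommRingCat.of K) ⟶ Spec (CommRingCat.of k) := y ≫ ψ
  let T' : Over (Spec (CommRingCat.of K)) := Over.mk (pullback.snd T.hom q)
  let π : (Over.map ψ).obj ((Over.map y).obj T') ⟶ T := Over.homMk (pullback.fst T.hom q) (by
    show pullback.fst T.hom q ≫ T.hom = (pullback.snd T.hom q ≫ y) ≫ ψ
    rw [pullback.condition, Category.assoc])
  haveI : Surjective q := ⟨fun z => ⟨IsLocalRing.closedPoint K, Subsingleton.elim _ _⟩⟩
  haveI : Flat q := inferInstance
  haveI : QuasiCompact q := inferInstance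
  haveI : Flat π.left := inferInstanceAs (Flat (pullback.fst T.hom q))
  haveI : Surjective π.left := inferInstanceAs (Surjective (pullback.fst T.hom q))
  haveI : QuasiCompact π.left := inferInstanceAs (QuasiCompact (pullback.fst T.hom q))
  haveI := epi_of_cover π
  have key := eq_of_natural C (1 : 𝟙_ (Over (Spec (CommRingCat.of K))) ⟶ Red.bc y (Red.bc ψ G))
    (fun g h => unfl (lift (flt g) (flt h) ≫ a.act))
    (fun t g h => flt_inj (by rw [flt_comp, flt_unfl, flt_unfl, flt_comp, flt_comp, comp_lift_assoc]))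
    (fun g h h' => flt_inj (by rw [flt_unfl, flt_mulH, flt_mulH, flt_unfl, flt_unfl, hhom]))
    (fun {T''} h => flt_inj (by rw [flt_unfl, MonObj.comp_one, flt_oneG, act_one]))
    (T := T') (unfl (π ≫ g)) (unfl (π ≫ h))
  have h2 := congrArg flt key
  simp only [flt_unfl] at h2
  rw [← cancel_epi π, comp_lift_assoc]
  exact h2

end Groth.Agent.MultAct19
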