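import Groth.Agent.Lib.DiagGL.Chars
import Mathlib.RingTheory.Spectrum.Prime.Topology
import Mathlib.Algebra.MonoidAlgebra.Basic

/-!
# A connected group acts trivially on diagonalisable groups: the computation over a field
-/

set_option autoImplicit false
set_option linter.style.haveILetI false
set_option backward.isDefEq.respectTransparency.types false
set_option backward.isDefEq.respectTransparency false

universe u

open CategoryTheory MonoidalCategory CartesianMonoidalCategory MonObj AlgebraicGeometry
open Groth.Agent.DiagGL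

namespace Groth.Agent.MultAct19

variable {K : Type u} [Field K]

theorem alg_sp (B : Type u) [CommRing B] [Algebra K B] (r : K) :
    alg (CoactBr.sp K B) r = (Scheme.ΓSpecIso (CommRingCat.of B)).inv (algebraMap K B r) := by
  rw [← ev_algebraMap (CoactBr.pt (AlgHom.id K B)), ev_pt]
  rfl

/-- Points of an affine scheme over `K` with values in an algebra are algebra maps. -/
theorem exists_pt {B C : Type u} [CommRing B] [Algebra K B] [CommRing C] [Algebra K C]
    (f : CoactBr.sp K C ⟶ CoactBr.sp K B) : ∃ φ : B →ₐ[K] C, f = CoactBr.pt φ := by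
  let g : B →+* C := (Scheme.ΓSpecIso (CommRingCat.of C)).hom.hom.comp (ev f)
  refine ⟨⟨g, fun r => ?_⟩, ev_injective fun b => ?_⟩
  · show (Scheme.ΓSpecIso (CommRingCat.of C)).hom (ev f (algebraMap K B r)) = _
    rw [ev_algebraMap, alg_sp]
    exact Iso.inv_hom_id_apply _ _
  · rw [ev_pt]
    exact (Iso.hom_inv_id_apply _ _).symm

theorem pt_comp {A B C : Type u} [CommRing A] [Algebra K A] [CommRing B] [Algebra K B] [CommRing C] [Algebra K C]
    (φ : A →ₐ[K] B) (ψ : B →ₐ[K] C) : CoactBr.pt ψ ≫ CoactBr.pt φ = CoactBr.pt (ψ.comp φ) := by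
  refine ev_injective fun a => ?_
  rw [ev_comp, ev_pt, ev_pt]
  exact (ConcreteCategory.congr_hom (Scheme.ΓSpecIso_inv_naturality (CommRingCat.ofHom ψ.toRingHom)) (φ a)).symm

theorem eq_zero_or_one_of_idem {R : Type u} [CommRing R] [ConnectedSpace (PrimeSpectrum R)] {e : R}
    (he : IsIdempotentElem e) : e = 0 ∨ e = 1 := by
  rcases isClopen_iff.1 (PrimeSpectrum.isClopen_iff.2 ⟨e, he, rfl⟩) with h | h
  · exact Or.inl (PrimeSpectrum.basicOpen_injOn_isIdempotentElem he IsIdempotentElem.zero
      (TopologicalSpace.Opens.ext (h.trans (by simp))))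
  · exact Or.inr (PrimeSpectrum.basicOpen_injOn_isIdempotentElem he IsIdempotentElem.one
      (TopologicalSpace.Opens.ext (h.trans (by simp))))

variable {M : Type} [AddCommGroup M]

theorem coeff_diag_mul {R : Type u} [CommRing R] (a b : MonoidAlgebra R (Multiplicative M))
    (p q : Multiplicative M) :
    (MonoidAlgebra.mapDomainAlgHom R R (MonoidHom.inl (Multiplicative M) (Multiplicative M)) a *
      MonoidAlgebra.mapDomainAlgHom R R (MonoidHom.inr (Multiplicative M) (Multiplicative M)) b).coeff (p, q) =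
      a.coeff p * b.coeff q := by
  classical
  induction a using MonoidAlgebra.induction_linear with
  | zero => simp
  | add x y hx hy =>
    rw [map_add, add_mul, MonoidAlgebra.coeff_add, Finsupp.add_apply, hx, hy, MonoidAlgebra.coeff_add,
      Finsupp.add_apply, add_mul]
  | single m r =>
    induction b using MonoidAlgebra.induction_linear with
    | zero => simp
    | add x y hx hy =>
      rw [map_add, mul_add, MonoidAlgebra.coeff_add, Finsupp.add_apply, hx, hy, MonoidAlgebra.coeff_add,
        Finsupp.add_apply, mul_add]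
    | single n s =>
      simp [MonoidAlgebra.single_mul_single, MonoidAlgebra.coeff_single, Finsupp.single_apply]
      split_ifs <;> simp_all

theorem coeff_diag {R : Type u} [CommRing R] (a : MonoidAlgebra R (Multiplicative M))
    (p q : Multiplicative M) [DecidableEq (Multiplicative M)] :
    (MonoidAlgebra.mapDomainAlgHom R R
      ((MonoidHom.id (Multiplicative M)).prod (MonoidHom.id (Multiplicative M))) a).coeff (p, q) =
      if p = q then a.coeff p else 0 := by
  induction a using MonoidAlgebra.induction_linear with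
  | zero => simp
  | add x y hx hy =>
    rw [map_add, MonoidAlgebra.coeff_add, Finsupp.add_apply, hx, hy, MonoidAlgebra.coeff_add, Finsupp.add_apply]
    split_ifs <;> simp
  | single m r =>
    simp [MonoidAlgebra.coeff_single, Finsupp.single_apply]
    by_cases hp : m = p <;> by_cases hq : m = q <;> simp_all
    intro e0
    exact absurd e0.symm hp

theorem mapAlgHom_single' {R : Type u} [CommRing R] [Algebra K R] (e : R →ₐ[K] K) (m : Multiplicative M) (r : R) :
    MonoidAlgebra.mapAlgHom (Multiplicative M) e (MonoidAlgebra.single m r) = MonoidAlgebra.single m (e r) := by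
  rw [MonoidAlgebra.mapAlgHom_single]

theorem diag_single {R : Type u} [CommRing R] (n : Multiplicative M) :
    MonoidAlgebra.mapDomainAlgHom R R ((MonoidHom.id (Multiplicative M)).prod (MonoidHom.id (Multiplicative M)))
        (MonoidAlgebra.of R (Multiplicative M) n) =
      MonoidAlgebra.mapDomainAlgHom R R (MonoidHom.inl (Multiplicative M) (Multiplicative M))
          (MonoidAlgebra.of R (Multiplicative M) n) *
        MonoidAlgebra.mapDomainAlgHom R R (MonoidHom.inr (Multiplicative M) (Multiplicative M))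
          (MonoidAlgebra.of R (Multiplicative M) n) := by
  simp [MonoidAlgebra.of_apply, MonoidAlgebra.single_mul_single]

variable {σ : Over (Spec (CommRingCat.of K))} [GrpObj σ]
  {N : Type} [AddCommGroup N] {τ : Over (Spec (CommRingCat.of K))} [GrpObj τ]

/-- A natural family of homomorphisms of diagonalisable groups parametrised by a connected affine scheme with
a rational point is constant. -/
theorem eq_of_natural_sp (C : Chars M σ) (D : Chars N τ) (F : Multiplicative N → Multiplicative M) (R : Type u) [CommRing R] [Algebra K R]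
    [ConnectedSpace (PrimeSpectrum R)] (e : R →ₐ[K] K)
    (α : ∀ {T : Over (Spec (CommRingCat.of K))}, (T ⟶ CoactBr.sp K R) → (T ⟶ σ) → (T ⟶ τ))
    (hnat : ∀ {T T' : Over (Spec (CommRingCat.of K))} (t : T' ⟶ T) (g : T ⟶ CoactBr.sp K R) (h : T ⟶ σ),
      t ≫ α g h = α (t ≫ g) (t ≫ h))
    (hmul : ∀ {T : Over (Spec (CommRingCat.of K))} (g : T ⟶ CoactBr.sp K R) (h h' : T ⟶ σ),
      α g (h * h') = α g h * α g h')
    (he : ∀ (B : Type u) [CommRing B] [Algebra K B] (h : CoactBr.sp K B ⟶ σ),
      ∀ b, D.ch (α (CoactBr.pt ((Algebra.ofId K B).comp e)) h) b = C.ch h (F b))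
    {T : Over (Spec (CommRingCat.of K))} (g : T ⟶ CoactBr.sp K R) (h : T ⟶ σ) (b : Multiplicative N) :
    D.ch (α g h) b = C.ch h (F b) := by
  classical
  let A := MonoidAlgebra R (Multiplicative M)
  let jA : R →ₐ[K] A := IsScalarTower.toAlgHom K R A
  let gA : CoactBr.sp K A ⟶ CoactBr.sp K R := CoactBr.pt jA
  obtain ⟨hA, hhA⟩ := C.surj (T := CoactBr.sp K A)
    ((Scheme.ΓSpecIso (CommRingCat.of A)).inv.hom.toMonoidHom.comp (MonoidAlgebra.of R (Multiplicative M)))
  have hhA' : ∀ n, C.ch hA n = (Scheme.ΓSpecIso (CommRingCat.of A)).inv (MonoidAlgebra.of R _ n) := fun n => by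
    rw [hhA]; rfl
  -- push the universal pair along an algebra map
  have push : ∀ (B : Type u) [CommRing B] [Algebra K B] (θ : A →ₐ[K] B) (n : Multiplicative M),
      C.ch (CoactBr.pt θ ≫ hA) n = (Scheme.ΓSpecIso (CommRingCat.of B)).inv (θ (MonoidAlgebra.of R _ n)) := by
    intro B _ _ θ n
    rw [C.nat, hhA' n]
    exact (ConcreteCategory.congr_hom (Scheme.ΓSpecIso_inv_naturality (CommRingCat.ofHom θ.toRingHom)) _).symm
  suffices hkey : D.ch (α gA hA) b = C.ch hA (F b) by
    -- every pair factors through the universal one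
    have hid : (𝟙 (CoactBr.sp K R)) = CoactBr.pt (AlgHom.id K R) := ev_injective fun b => by
      obtain ⟨φ, hφ⟩ := exists_pt (𝟙 (CoactBr.sp K R))
      rw [ev_pt]
      show ev (𝟙 (CoactBr.sp K R)) b = _
      show ((Scheme.ΓSpecIso (CommRingCat.of R)).inv ≫ Scheme.Hom.appTop (𝟙 (Spec (CommRingCat.of R)))).hom b = _
      simp
    letI := (alg T).toAlgebra
    letI : Algebra R Γ(T.left, ⊤) := (ev g).toAlgebra
    haveI : IsScalarTower K R Γ(T.left, ⊤) :=
      IsScalarTower.of_algebraMap_eq fun r => (ev_algebraMap g r).symm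
    let F : A →ₐ[R] Γ(T.left, ⊤) := MonoidAlgebra.lift R _ _ (C.ch h)
    let t : T ⟶ CoactBr.sp K A := mk F.toRingHom fun r => (F.restrictScalars K).commutes r
    have ht : ∀ a, ev t a = F a := fun a => by rw [ev_mk]; rfl
    have htg : t ≫ gA = g := ev_injective fun b => by
      rw [ev_comp, ev_pt]
      show ev t (jA b) = _
      rw [ht]
      exact F.commutes b
    have hth : t ≫ hA = h := C.inj fun n => by
      rw [C.nat, hhA']
      show ev t (MonoidAlgebra.of R _ n) = _
      rw [ht]
      exact MonoidAlgebra.lift_of _ n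
    rw [← htg, ← hth, ← hnat, D.nat, hkey, ← C.nat]
  set m := F b with hmdef
  set a : A := (Scheme.ΓSpecIso (CommRingCat.of A)).hom (D.ch (α gA hA) b) with ha
  have ha' : D.ch (α gA hA) b = (Scheme.ΓSpecIso (CommRingCat.of A)).inv a :=
    (Iso.hom_inv_id_apply _ _).symm
  rw [ha', hhA']
  congr 1
  -- functoriality of `a`
  have hval : ∀ (B : Type u) [CommRing B] [Algebra K B] (θ : A →ₐ[K] B),
      D.ch (α (CoactBr.pt (θ.comp jA)) (CoactBr.pt θ ≫ hA)) b =
        (Scheme.ΓSpecIso (CommRingCat.of B)).inv (θ a) := by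
    intro B _ _ θ
    rw [← pt_comp, ← hnat, D.nat, ha']
    exact (ConcreteCategory.congr_hom (Scheme.ΓSpecIso_inv_naturality (CommRingCat.ofHom θ.toRingHom)) _).symm
  let B := MonoidAlgebra R (Multiplicative M × Multiplicative M)
  let θ₁ : A →ₐ[R] B := MonoidAlgebra.mapDomainAlgHom R R (MonoidHom.inl _ _)
  let θ₂ : A →ₐ[R] B := MonoidAlgebra.mapDomainAlgHom R R (MonoidHom.inr _ _)
  let θ₃ : A →ₐ[R] B := MonoidAlgebra.mapDomainAlgHom R R ((MonoidHom.id _).prod (MonoidHom.id _))
  have hrel : θ₃ a = θ₁ a * θ₂ a := by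
    have hinj : Function.Injective ((Scheme.ΓSpecIso (CommRingCat.of B)).inv) :=
      (ConcreteCategory.bijective_of_isIso _).1
    have hB : ∀ θ : A →ₐ[R] B, (θ.restrictScalars K).comp jA = IsScalarTower.toAlgHom K R B := fun θ =>
      AlgHom.ext fun r => θ.commutes r
    have h3 : CoactBr.pt (θ₃.restrictScalars K) ≫ hA =
        (CoactBr.pt (θ₁.restrictScalars K) ≫ hA) * (CoactBr.pt (θ₂.restrictScalars K) ≫ hA) := C.inj fun n => by
      rw [C.mul, push, push, push]
      refine Eq.trans (congrArg _ ?_) (map_mul (Scheme.ΓSpecIso (CommRingCat.of B)).inv.hom _ _)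
      exact diag_single n
    apply hinj
    have e3 := hval B (θ₃.restrictScalars K)
    rw [h3, hB, hmul, D.mul, ← hB θ₁] at e3
    rw [hval B (θ₁.restrictScalars K), hB θ₁, ← hB θ₂, hval B (θ₂.restrictScalars K)] at e3
    simp only [AlgHom.restrictScalars_apply] at e3
    rw [map_mul]
    exact e3.symm
  have hco : ∀ p q : Multiplicative M, (if p = q then a.coeff p else 0) = a.coeff p * a.coeff q := fun p q => by
    rw [← coeff_diag, ← coeff_diag_mul]
    exact congrArg (fun z : B => z.coeff (p, q)) hrel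
  -- at the given point `a` is `m`
  let φe : A →ₐ[K] MonoidAlgebra K (Multiplicative M) := MonoidAlgebra.mapAlgHom (Multiplicative M) e
  have hφι : φe.comp jA = (Algebra.ofId K _).comp e := AlgHom.ext fun r => by
    exact (mapAlgHom_single' e 1 r).trans (by simp [Algebra.ofId_apply])
  have hem : φe a = MonoidAlgebra.of K _ m := by
    have h1 := hval _ φe
    rw [hφι, he, ← hmdef, push] at h1
    have h2 := (ConcreteCategory.bijective_of_isIso
      (Scheme.ΓSpecIso (CommRingCat.of (MonoidAlgebra K (Multiplicative M)))).inv).1 h1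
    rw [← h2]
    exact (mapAlgHom_single' e m 1).trans (by rw [map_one, MonoidAlgebra.of_apply])
  have hcm : e (a.coeff m) = 1 := by
    have := congrArg (fun z : MonoidAlgebra K (Multiplicative M) => z.coeff m) hem
    simp only [MonoidAlgebra.of_apply, MonoidAlgebra.coeff_single, Finsupp.single_eq_same] at this
    exact (MonoidAlgebra.coeff_mapAlgHom e a m).symm.trans this
  have ham : a.coeff m = 1 := by
    have hidem : IsIdempotentElem (a.coeff m) := by
      have := hco m m
      rw [if_pos rfl] at this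
      exact this.symm
    rcases eq_zero_or_one_of_idem hidem with h0 | h0
    · rw [h0, map_zero] at hcm; exact absurd hcm zero_ne_one
    · exact h0
  apply MonoidAlgebra.coeff_inj.1
  ext p
  rw [MonoidAlgebra.of_apply, MonoidAlgebra.coeff_single, Finsupp.single_apply]
  split_ifs with hp
  · rw [← hp, ham]
  · have := hco m p
    rw [if_neg hp, ham, _root_.one_mul] at this
    exact this.symm

/-- The same for an affine connected scheme with a rational point. -/
theorem char_eq_of_natural (C : Chars M σ) (D : Chars N τ) (F : Multiplicative N → Multiplicative M)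
    {G : Over (Spec (CommRingCat.of K))} [IsAffine G.left]
    [ConnectedSpace G.left] (e : 𝟙_ (Over (Spec (CommRingCat.of K))) ⟶ G)
    (α : ∀ {T : Over (Spec (CommRingCat.of K))}, (T ⟶ G) → (T ⟶ σ) → (T ⟶ τ))
    (hnat : ∀ {T T' : Over (Spec (CommRingCat.of K))} (t : T' ⟶ T) (g : T ⟶ G) (h : T ⟶ σ),
      t ≫ α g h = α (t ≫ g) (t ≫ h))
    (hmul : ∀ {T : Over (Spec (CommRingCat.of K))} (g : T ⟶ G) (h h' : T ⟶ σ),
      α g (h * h') = α g h * α g h')
    (he : ∀ {T : Over (Spec (CommRingCat.of K))} (h : T ⟶ σ) b, D.ch (α (toUnit T ≫ e) h) b = C.ch h (F b))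
    {T : Over (Spec (CommRingCat.of K))} (g : T ⟶ G) (h : T ⟶ σ) (b : Multiplicative N) :
    D.ch (α g h) b = C.ch h (F b) := by
  letI := (alg G).toAlgebra
  let c : G ⟶ CoactBr.sp K Γ(G.left, ⊤) := Over.homMk G.left.toSpecΓ (can_aux G)
  haveI : IsIso c := by
    haveI : IsIso ((Over.forget (Spec (CommRingCat.of K))).map c) := inferInstanceAs (IsIso G.left.toSpecΓ)
    exact isIso_of_reflects_iso c (Over.forget _)
  haveI : ConnectedSpace (PrimeSpectrum Γ(G.left, ⊤)) :=
    (asIso G.left.toSpecΓ).hom.homeomorph.connectedSpace_iff.1 inferInstance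
  let u : CoactBr.sp K K ⟶ 𝟙_ (Over (Spec (CommRingCat.of K))) := toUnit _
  obtain ⟨φ, hφ⟩ := exists_pt (u ≫ e ≫ c)
  have key := eq_of_natural_sp C D F Γ(G.left, ⊤) φ (fun g h => α (g ≫ inv c) h)
    (fun t g h => by rw [hnat, Category.assoc]) (fun g h h' => hmul _ h h')
    (fun B _ _ h b => by
      show D.ch (α (_ ≫ inv c) h) b = _
      rw [← pt_comp, ← hφ]
      simp only [Category.assoc, IsIso.hom_inv_id, Category.comp_id]
      rw [← Category.assoc, toUnit_unique (CoactBr.pt (Algebra.ofId K B) ≫ u) (toUnit _), he])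
    (g ≫ c) h b
  simpa using key

/-- A family of endomorphisms which is the identity at one point is the identity. -/
theorem eq_of_natural (C : Chars M σ) {G : Over (Spec (CommRingCat.of K))} [IsAffine G.left]
    [ConnectedSpace G.left] (e : 𝟙_ (Over (Spec (CommRingCat.of K))) ⟶ G)
    (α : ∀ {T : Over (Spec (CommRingCat.of K))}, (T ⟶ G) → (T ⟶ σ) → (T ⟶ σ))
    (hnat : ∀ {T T' : Over (Spec (CommRingCat.of K))} (t : T' ⟶ T) (g : T ⟶ G) (h : T ⟶ σ),
      t ≫ α g h = α (t ≫ g) (t ≫ h))
    (hmul : ∀ {T : Over (Spec (CommRingCat.of K))} (g : T ⟶ G) (h h' : T ⟶ σ),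
      α g (h * h') = α g h * α g h')
    (he : ∀ {T : Over (Spec (CommRingCat.of K))} (h : T ⟶ σ), α (toUnit T ≫ e) h = h)
    {T : Over (Spec (CommRingCat.of K))} (g : T ⟶ G) (h : T ⟶ σ) : α g h = h :=
  C.inj fun b => char_eq_of_natural C C id e α hnat hmul (fun h b => by rw [he]; rfl) g h b

end Groth.Agent.MultAct19
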